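import Groth.Agent.Lib.WDivAff.Main
import Groth.Agent.Lib.OrdOpen.Basic
import Groth.Agent.Lib.ProjPic26.Chart
import Groth.Agent.Lib.ProjSp.Section
import Mathlib

/-!
# Weil divisors on projective space over an affine base
-/

set_option autoImplicit false
set_option linter.all false
set_option backward.isDefEq.respectTransparency false

universe u

open CategoryTheory CategoryTheory.Limits AlgebraicGeometry TopologicalSpace Opposite

noncomputable section

namespace GrothLib.WDivProj4

variable (A : Type u) [CommRing A] (n : ℕ)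

/-- The affine space in projective space, in coordinates. -/
def chartIso : Spec (CommRingCat.of (MvPolynomial (Fin n) A)) ≅
    Spec (CommRingCat.of (HomogeneousLocalization.Away (CohB1.polyGrading n A) (ProjSp.x0 n A))) :=
  Scheme.Spec.mapIso ((RingEquiv.ofBijective _ (ProjPic26.affChart_bijective (R := A) (n := n) 0)).toCommRingCatIso).symm.op

open CohB1 in
/-- The affine space in projective space. -/
def chartHom : Spec (CommRingCat.of (MvPolynomial (Fin n) A)) ⟶ ProjSpace n A :=
  (chartIso A n).hom ≫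
    Proj.awayι (polyGrading n A) (ProjSp.x0 n A) (ProjSp.x0_mem n A) Nat.one_pos

instance : IsOpenImmersion (chartHom A n) :=
  inferInstanceAs (IsOpenImmersion ((chartIso A n).hom ≫ Proj.awayι _ _ (ProjSp.x0_mem n A) Nat.one_pos))

theorem chartHom_toSpec : chartHom A n ≫ CohB1.ProjSpace.toSpec n A =
    Spec.map (CommRingCat.ofHom (algebraMap A (MvPolynomial (Fin n) A))) := by
  let e := RingEquiv.ofBijective _ (ProjPic26.affChart_bijective (R := A) (n := n) 0)
  refine (Category.assoc _ _ _).trans ((congrArg ((chartIso A n).hom ≫ ·) (ProjSp.awayι_toSpec n A)).trans ?_)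
  show Spec.map e.toCommRingCatIso.inv ≫ _ = _
  refine (Spec.map_comp _ _).symm.trans (congrArg Spec.map ?_)
  refine CommRingCat.hom_ext (RingHom.ext fun a => ?_)
  let e := RingEquiv.ofBijective _ (ProjPic26.affChart_bijective (R := A) (n := n) 0)
  show e.symm (ProjSp.baseMap n A a) = algebraMap A (MvPolynomial (Fin n) A) a
  rw [RingEquiv.symm_apply_eq]
  show _ = ProjPic26.affChart 0 (MvPolynomial.C a)
  simp only [ProjPic26.affChart, MvPolynomial.eval₂Hom_C]
  rfl

theorem opensRange_chartHom : (chartHom A n).opensRange = Proj.basicOpen (CohB1.polyGrading n A) (ProjSp.x0 n A) := by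
  exact (Scheme.Hom.opensRange_comp_of_isIso (chartIso A n).hom (Proj.awayι (CohB1.polyGrading n A) (ProjSp.x0 n A) (ProjSp.x0_mem n A) Nat.one_pos)).trans (Proj.opensRange_awayι _ _ _ _)

/-- Affine space inside projective space, as `D₊(X₀)`. -/
def emb : 𝔸(ULift.{u} (Fin n); Spec (CommRingCat.of A)) ⟶ CohB1.ProjSpace n A :=
  (AffineSpace.SpecIso (ULift.{u} (Fin n)) (CommRingCat.of A)).hom ≫
    Spec.map ((MvPolynomial.renameEquiv A (Equiv.ulift.{u} (α := Fin n)).symm).toRingEquiv.toCommRingCatIso).hom ≫
      chartHom A n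

instance : IsOpenImmersion (emb A n) := by
  unfold emb; infer_instance

theorem emb_toSpec : emb A n ≫ CohB1.ProjSpace.toSpec n A =
    𝔸(ULift.{u} (Fin n); Spec (CommRingCat.of A)) ↘ Spec (CommRingCat.of A) := by
  rw [← cancel_epi (AffineSpace.SpecIso (ULift.{u} (Fin n)) (CommRingCat.of A)).inv]
  simp only [emb, Category.assoc, Iso.inv_hom_id_assoc, chartHom_toSpec, ← Spec.map_comp]
  refine Eq.trans ?_ (AffineSpace.SpecIso_inv_over (n := ULift.{u} (Fin n)) (CommRingCat.of A)).symm
  refine congrArg Spec.map (CommRingCat.hom_ext (RingHom.ext fun r => ?_))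
  exact (MvPolynomial.renameEquiv A (Equiv.ulift.{u} (α := Fin n)).symm).commutes r

theorem range_emb :
    Set.range (emb A n) = ((Proj.basicOpen (CohB1.polyGrading n A) (ProjSp.x0 n A) : (Proj (CohB1.polyGrading n A)).Opens) : Set (Proj (CohB1.polyGrading n A))) := by
  rw [← Scheme.Hom.coe_opensRange]
  unfold emb
  rw [Scheme.Hom.opensRange_comp_of_isIso, Scheme.Hom.opensRange_comp_of_isIso, opensRange_chartHom]

variable {A n}

theorem not_mem_range_emb_iff (H : CohB1.ProjSpace n A)
    (hH : H.asHomogeneousIdeal.toIdeal = Ideal.span {(MvPolynomial.X 0 : MvPolynomial (Fin (n + 1)) A)})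
    {y : CohB1.ProjSpace n A} (hy : y ∉ Set.range (emb A n)) : H ⤳ y := by
  rw [range_emb] at hy
  have hm : (MvPolynomial.X 0 : MvPolynomial (Fin (n + 1)) A) ∈ y.asHomogeneousIdeal := by
    by_contra h; exact hy h
  refine specializes_iff_mem_closure.2 ((ProjectiveSpectrum.le_iff_mem_closure (𝒜 := CohB1.polyGrading n A) H y).1 ?_)
  show H.asHomogeneousIdeal.toIdeal ≤ y.asHomogeneousIdeal.toIdeal
  rw [hH, Ideal.span_singleton_le_iff_mem]
  exact hm

theorem notMem_range_emb (H : CohB1.ProjSpace n A)
    (hH : H.asHomogeneousIdeal.toIdeal = Ideal.span {(MvPolynomial.X 0 : MvPolynomial (Fin (n + 1)) A)}) :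
    H ∉ Set.range (emb A n) := by
  rw [range_emb]
  intro h
  refine h ?_
  show ProjSp.x0 n A ∈ H.asHomogeneousIdeal.toIdeal
  rw [hH]
  exact Ideal.mem_span_singleton_self _

variable [IsDomain A]

/-- The generic point of the hyperplane lies over the generic point of the base. -/
theorem toSpec_hyperplane [IsIntegral (Spec (CommRingCat.of A))] (hn : 1 ≤ n) (H : CohB1.ProjSpace n A)
    (hH : H.asHomogeneousIdeal.toIdeal = Ideal.span {(MvPolynomial.X 0 : MvPolynomial (Fin (n + 1)) A)}) :
    CohB1.ProjSpace.toSpec n A H = genericPoint (Spec (CommRingCat.of A)) := by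
  let i : Fin (n + 1) := ⟨1, by omega⟩
  have hi : i ≠ 0 := fun h => by simp [i, Fin.ext_iff] at h
  let xi : MvPolynomial (Fin (n + 1)) A := MvPolynomial.X i
  have hxi : xi ∈ CohB1.polyGrading n A 1 := MvPolynomial.isHomogeneous_X _ _
  have key : ∀ a : A, a ≠ 0 → MvPolynomial.C a * xi ∉ H.asHomogeneousIdeal.toIdeal := by
    intro a ha hm
    rw [hH, Ideal.mem_span_singleton] at hm
    obtain ⟨c, hc⟩ := hm
    have h := congrArg (MvPolynomial.eval₂Hom MvPolynomial.C
      (fun l : Fin (n + 1) => if l = 0 then (0 : MvPolynomial (Fin (n + 1)) A) else MvPolynomial.X l)) hc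
    simp only [map_mul, MvPolynomial.eval₂Hom_C, MvPolynomial.eval₂Hom_X', if_neg hi, xi, if_true, zero_mul] at h
    exact mul_ne_zero (MvPolynomial.C_ne_zero.2 ha) (MvPolynomial.X_ne_zero i) h
  have hxH : H ∈ Proj.basicOpen (CohB1.polyGrading n A) xi := fun h =>
    key 1 one_ne_zero (by rw [map_one, one_mul]; exact h)
  rw [← Proj.opensRange_awayι (CohB1.polyGrading n A) xi hxi Nat.one_pos] at hxH
  obtain ⟨z, hz⟩ := hxH
  rw [genericPoint_eq_bot_of_affine]
  refine PrimeSpectrum.ext (eq_bot_iff.2 fun a ha => ?_)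
  by_contra ha0
  have hg : MvPolynomial.C a * xi ∈ CohB1.polyGrading n A 1 := by
    show MvPolynomial.IsHomogeneous _ _
    exact MvPolynomial.IsHomogeneous.C_mul (MvPolynomial.isHomogeneous_X _ _) a
  have hpre := Proj.awayι_preimage_basicOpen (CohB1.polyGrading n A) hxi Nat.one_pos hg Nat.one_pos
  have hz' : z ∈ (Proj.awayι (CohB1.polyGrading n A) xi hxi Nat.one_pos) ⁻¹ᵁ
      Proj.basicOpen (CohB1.polyGrading n A) (MvPolynomial.C a * xi) := by
    show _ ∈ Proj.basicOpen (CohB1.polyGrading n A) (MvPolynomial.C a * xi)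
    rw [hz]
    exact key a ha0
  rw [hpre] at hz'
  refine hz' ?_
  have he : HomogeneousLocalization.Away.isLocalizationElem hxi hg =
      (HomogeneousLocalization.fromZeroRingHom (CohB1.polyGrading n A) (Submonoid.powers xi))
        (algebraMap A (CohB1.polyGrading n A 0) a) := by
    apply HomogeneousLocalization.val_injective
    simp only [HomogeneousLocalization.Away.isLocalizationElem, HomogeneousLocalization.Away.val_mk]
    show _ = Localization.mk (MvPolynomial.C a) 1
    rw [Localization.mk_eq_mk_iff, Localization.r_iff_exists]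
    exact ⟨1, by simp; ring⟩
  rw [he]
  have hcomp : Proj.awayι (CohB1.polyGrading n A) xi hxi Nat.one_pos ≫ CohB1.ProjSpace.toSpec n A =
      Spec.map (CommRingCat.ofHom ((HomogeneousLocalization.fromZeroRingHom (CohB1.polyGrading n A)
        (Submonoid.powers xi)).comp (algebraMap A (CohB1.polyGrading n A 0)))) := by
    show _ ≫ Proj.toSpecZero _ ≫ _ = _
    rw [Proj.awayι_toSpecZero_assoc, ← Spec.map_comp]
    rfl
  have h1 : CohB1.ProjSpace.toSpec n A H = Spec.map (CommRingCat.ofHom ((HomogeneousLocalization.fromZeroRingHom (CohB1.polyGrading n A)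
        (Submonoid.powers xi)).comp (algebraMap A (CohB1.polyGrading n A 0)))) z :=
    ((congrArg (CohB1.ProjSpace.toSpec n A) hz.symm).trans (congrArg (fun f => f z) hcomp))
  replace ha : a ∈ (Spec.map (CommRingCat.ofHom ((HomogeneousLocalization.fromZeroRingHom (CohB1.polyGrading n A)
        (Submonoid.powers xi)).comp (algebraMap A (CohB1.polyGrading n A 0)))) z).asIdeal := h1 ▸ ha
  exact ha

end GrothLib.WDivProj4
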