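import Groth.Agent.Lib.WDivProj4.Basic
import Groth.Agent.S10901
import Mathlib

/-!
# The class group of projective space over a Noetherian domain regular in codimension one
-/

set_option autoImplicit false
set_option linter.all false
set_option backward.isDefEq.respectTransparency false

universe u

open CategoryTheory CategoryTheory.Limits AlgebraicGeometry TopologicalSpace Opposite

noncomputable section

namespace GrothLib.WDivProj4

open WDivAff

theorem res_pullK {U W X : Scheme.{u}} [IsIntegral U] [IsIntegral W] [IsIntegral X] (j : U ⟶ W) [IsOpenImmersion j]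
    (q : W ⟶ X) (p : U ⟶ X) (e : j ≫ q = p) (hq : q (genericPoint W) = genericPoint X)
    (hp : p (genericPoint U) = genericPoint X) :
    pullK q hq ≫ OrdOpen.res j = pullK p hp := by
  subst e
  simp only [pullK, OrdOpen.res, Category.assoc]
  rw [Scheme.Hom.stalkMap_comp, ← Scheme.Hom.stalkSpecializes_stalkMap_assoc,
    TopCat.Presheaf.stalkSpecializes_comp_assoc]

theorem eq_of_specializes_of_coheight_one {W : Scheme.{u}} [IsIntegral W] {H y : W} (hs : H ⤳ y)
    (hne : H ≠ genericPoint W) (hy : Order.coheight y = 1) : y = H := by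
  by_contra hyH
  have hlt : y < H := lt_of_le_not_ge (Scheme.le_iff_specializes.2 hs)
    fun h2 => hyH ((Scheme.le_iff_specializes.1 h2).antisymm hs).eq
  have hlt2 : H < genericPoint W := lt_of_le_not_ge (Scheme.le_iff_specializes.2 (genericPoint_specializes H))
    fun h2 => hne ((Scheme.le_iff_specializes.1 h2).antisymm (genericPoint_specializes H)).eq
  have h1 := Order.coheight_add_one_le hlt
  have h2 := Order.coheight_add_one_le hlt2
  rw [hy] at h1
  have h0 : Order.coheight H = 0 := by
    revert h1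
    cases Order.coheight H using ENat.recTopCoe with
    | top => simp
    | coe m => intro h1; norm_cast at h1 ⊢; omega
  rw [h0] at h2
  simp at h2

variable (A : Type u) [CommRing A] [IsDomain A] [IsNoetherianRing A] (n : ℕ) (hn : 1 ≤ n)
  [IsIntegral (CohB1.ProjSpace n A)] [IsLocallyNoetherian (CohB1.ProjSpace n A)]
  [IsIntegral (Spec (CommRingCat.of A))]
  (hR1 : ∀ x : ↥(Spec (CommRingCat.of A)), Order.coheight x = 1 →
    IsDiscreteValuationRing ↑((Spec (CommRingCat.of A)).presheaf.stalk x))
  (H : ↥(CohB1.ProjSpace n A))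
  (hH : H.asHomogeneousIdeal.toIdeal = Ideal.span {(MvPolynomial.X 0 : MvPolynomial (Fin (n + 1)) A)})

include hn hR1 hH in
theorem principal (d : ℤ) (D : ↥(Spec (CommRingCat.of A)) → ℤ) (hD : ∀ x, Order.coheight x ≠ 1 → D x = 0)
    (g : ↑(CohB1.ProjSpace n A).functionField) (hg : g ≠ 0)
    (hH' : Scheme.ord g H = d + D (CohB1.ProjSpace.toSpec n A H))
    (h : ∀ y, y ≠ H → Order.coheight y = 1 → Scheme.ord g y = D (CohB1.ProjSpace.toSpec n A y)) :
    d = 0 ∧ ∃ f : ↑(Spec (CommRingCat.of A)).functionField, f ≠ 0 ∧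
      ∀ x : ↥(Spec (CommRingCat.of A)), Order.coheight x = 1 → Scheme.ord f x = D x := by
  let S := Spec (CommRingCat.of A)
  let U := 𝔸(ULift.{u} (Fin n); S)
  let j := emb A n
  let q := CohB1.ProjSpace.toSpec n A
  haveI : IsIntegral U := GrothLib.PicAff26.isIntegral_affineSpace (ULift.{u} (Fin n)) (Y := S)
  haveI : IsLocallyNoetherian U := LocallyOfFiniteType.isLocallyNoetherian j
  have hpy : ∀ y : U, q (j y) = (U ↘ S) y := fun y => congrArg (fun f => f y) (emb_toSpec A n)
  have hord : ∀ y : U, Order.coheight y = 1 → Scheme.ord ((OrdOpen.res j).hom g) y = D ((U ↘ S) y) := by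
    intro y hy
    rw [OrdOpen.ord_res, h (j y) (fun e => notMem_range_emb H hH ⟨y, e⟩) ((OrdOpen.coheight_eq j y).trans hy), ← hpy]
  have hg' : (OrdOpen.res j).hom g ≠ 0 := (map_ne_zero_iff _ (OrdOpen.res_bijective j).injective).2 hg
  obtain ⟨f, hf, hfg⟩ := exists_of_horiz_zero hg' fun y hy hgen => by
    rw [hord y hy, hgen]
    exact hD _ (by rw [coheight_genericPoint]; exact zero_ne_one)
  have hqgen : q (genericPoint (CohB1.ProjSpace n A)) = genericPoint S := by
    rw [← genericPoint_eq_of_isOpenImmersion j, hpy]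
    exact map_genericPoint
  have hgf : g = (pullK q hqgen).hom f := by
    apply (OrdOpen.res_bijective j).injective
    refine Eq.trans hfg.symm ?_
    exact (congrArg (fun t => t.hom f) (res_pullK j q (U ↘ S) (emb_toSpec A n) hqgen map_genericPoint)).symm
  refine ⟨?_, f, hf, fun x hx => ?_⟩
  · have hqH := toSpec_hyperplane hn H hH
    rw [hqH, hD _ (by rw [coheight_genericPoint]; exact zero_ne_one), add_zero, hgf,
      ord_pullK_of_generic q hqgen hqH hf] at hH'
    exact hH'.symm
  · obtain ⟨y, hy1, rfl⟩ := exists_vert hR1 (n := ULift.{u} (Fin n)) hx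
    rw [← ord_phi_vert hR1 hy1 (fun e => by
        rw [e, coheight_genericPoint] at hx
        exact zero_ne_one hx) f, hfg]
    exact hord y hy1

include hn hR1 hH in
theorem linEquiv (D' : ↥(CohB1.ProjSpace n A) → ℤ) (hD' : ∀ y, Order.coheight y ≠ 1 → D' y = 0)
    (hfin : {y | D' y ≠ 0}.Finite) :
    ∃! d : ℤ, ∃ (D : ↥(Spec (CommRingCat.of A)) → ℤ) (g : ↑(CohB1.ProjSpace n A).functionField),
      (∀ x, Order.coheight x ≠ 1 → D x = 0) ∧ {x | D x ≠ 0}.Finite ∧ g ≠ 0 ∧
      D' H = d + D (CohB1.ProjSpace.toSpec n A H) + Scheme.ord g H ∧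
      ∀ y, y ≠ H → Order.coheight y = 1 →
        D' y = D (CohB1.ProjSpace.toSpec n A y) + Scheme.ord g y := by
  classical
  let S := Spec (CommRingCat.of A)
  let U := 𝔸(ULift.{u} (Fin n); S)
  let j := emb A n
  let q := CohB1.ProjSpace.toSpec n A
  haveI : IsNoetherianRing (CommRingCat.of A) := ‹_›
  haveI : IsNoetherian S := inferInstance
  haveI : IsIntegral U := GrothLib.PicAff26.isIntegral_affineSpace (ULift.{u} (Fin n)) (Y := S)
  haveI : IsLocallyNoetherian U := LocallyOfFiniteType.isLocallyNoetherian j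
  have hpy : ∀ y : U, q (j y) = (U ↘ S) y := fun y => congrArg (fun f => f y) (emb_toSpec A n)
  obtain ⟨D, g₀, hD, hDfin, hg₀, hD0⟩ := Groth.Agent.S10901.result n S hR1 (fun y : U => D' (j y))
    (fun y hy => hD' _ (fun h => hy ((OrdOpen.coheight_eq j y).symm.trans h)))
    (hfin.preimage j.isOpenEmbedding.injective.injOn)
  obtain ⟨g, rfl⟩ := (OrdOpen.res_bijective j).surjective g₀
  have hg : g ≠ 0 := fun e => hg₀ (by rw [e, map_zero])
  have hHgen : H ≠ genericPoint (CohB1.ProjSpace n A) := fun e =>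
    notMem_range_emb H hH ⟨genericPoint U, (genericPoint_eq_of_isOpenImmersion j).trans e.symm⟩
  have hoff : ∀ y, y ≠ H → Order.coheight y = 1 → D' y = D (q y) + Scheme.ord g y := by
    intro y hy hy1
    obtain ⟨z, rfl⟩ : y ∈ Set.range j := by
      by_contra hn'
      exact hy (eq_of_specializes_of_coheight_one (not_mem_range_emb_iff H hH hn') hHgen hy1)
    have := hD0 z ((OrdOpen.coheight_eq j z).symm.trans hy1)
    rw [OrdOpen.ord_res, ← hpy] at this
    exact this
  refine ⟨D' H - D (q H) - Scheme.ord g H, ⟨D, g, hD, hDfin, hg, by ring, hoff⟩, ?_⟩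
  rintro d' ⟨E, k, hE, hEfin, hk, hkH, hkoff⟩
  have hdiv : ∀ y, Scheme.ord (g / k) y = Scheme.ord g y - Scheme.ord k y := by
    intro y
    have hm := Scheme.ord_mul (x := y) (div_ne_zero hg hk) hk
    rw [div_mul_cancel₀ g hk] at hm
    omega
  obtain ⟨h0, -⟩ := principal A n hn hR1 H hH (d' - (D' H - D (q H) - Scheme.ord g H)) (fun x => E x - D x)
    (fun x hx => by rw [hE x hx, hD x hx, sub_zero]) (g / k) (div_ne_zero hg hk)
    (by show _ = _ + (E (q H) - D (q H)); rw [hdiv H]; simp only [q] at *; omega)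
    (fun y hy hy1 => by
      show _ = E (q y) - D (q y)
      rw [hdiv y]
      have := hoff y hy hy1
      have := hkoff y hy hy1
      simp only [q] at *
      omega)
  omega

end GrothLib.WDivProj4
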